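import Groth.Agent.S17758
import Groth.Agent.Hensel.Pair
import Groth.Agent.DescLib.EtaleFlat
import Groth.Agent.AdicLib.Basic
import Groth.Agent.VarDim.Basic
import Groth.Agent.RegLoc6.Basic
import Mathlib

/-!
# Punctured local rings of étale algebras over a ring of virtual dimension at least two
-/

set_option autoImplicit false
set_option linter.style.haveILetI false

universe u

open IsLocalRing Polynomial

namespace Groth.Agent.Pi1Vdim

/-- Monic `g`: the kernel of `R[x]/(g) → T[x]/(r g)` is generated by the kernel of `r`. -/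
theorem ker_map_adjoinRoot {R T : Type u} [CommRing R] [CommRing T] (r : R →+* T) (hr : Function.Surjective r)
    (g : R[X]) :
    RingHom.ker (AdjoinRoot.lift ((AdjoinRoot.of (g.map r)).comp r) (AdjoinRoot.root (g.map r))
      (by rw [← eval₂_map, AdjoinRoot.eval₂_root])) = (RingHom.ker r).map (AdjoinRoot.of g) := by
  refine le_antisymm (fun x hx => ?_) (Ideal.map_le_iff_le_comap.2 fun a ha => ?_)
  · obtain ⟨p, rfl⟩ := AdjoinRoot.mk_surjective x
    rw [RingHom.mem_ker, AdjoinRoot.lift_mk, ← eval₂_map] at hx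
    have h1 : AdjoinRoot.mk (g.map r) (p.map r) = 0 := by
      rw [← hx, ← AdjoinRoot.aeval_eq, aeval_def]
      rfl
    obtain ⟨q, hq⟩ := AdjoinRoot.mk_eq_zero.1 h1
    obtain ⟨q, rfl⟩ := map_surjective r hr q
    have h2 : p - g * q ∈ Ideal.map C (RingHom.ker r) := Ideal.mem_map_C_iff.2 fun n => by
      rw [RingHom.mem_ker, ← coeff_map, Polynomial.map_sub, Polynomial.map_mul, hq, sub_self, coeff_zero]
    have h3 : AdjoinRoot.mk g (p - g * q) ∈ ((RingHom.ker r).map C).map (AdjoinRoot.mk g) := Ideal.mem_map_of_mem _ h2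
    rw [Ideal.map_map, map_sub, map_mul, AdjoinRoot.mk_self, zero_mul, sub_zero] at h3
    exact h3
  · rw [Ideal.mem_comap, RingHom.mem_ker, AdjoinRoot.lift_of, RingHom.comp_apply, RingHom.mem_ker.1 ha, map_zero]

theorem surjective_lift_adjoinRoot {R T : Type u} [CommRing R] [CommRing T] (r : R →+* T) (hr : Function.Surjective r)
    (g : R[X]) :
    Function.Surjective (AdjoinRoot.lift ((AdjoinRoot.of (g.map r)).comp r) (AdjoinRoot.root (g.map r))
      (by rw [← eval₂_map, AdjoinRoot.eval₂_root])) := fun y => by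
  obtain ⟨q, rfl⟩ := AdjoinRoot.mk_surjective y
  obtain ⟨p, rfl⟩ := map_surjective r hr q
  refine ⟨AdjoinRoot.mk g p, ?_⟩
  rw [AdjoinRoot.lift_mk, ← eval₂_map, ← AdjoinRoot.aeval_eq, aeval_def]
  rfl

variable {A : Type u} [CommRing A] [IsNoetherianRing A] [IsLocalRing A]
  {B : Type u} [CommRing B] [Algebra A B] [Module.Finite A B] [Algebra.Etale A B]

/-- The generalizations of a closed point of an étale algebra other than itself form a connected set. -/
theorem isPreconnected_gen {S : Type u} [CommRing S] [IsRegularLocalRing S] [IsAdicComplete (maximalIdeal S) S]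
    (d : ℕ) (hd : ringKrullDim S = d) (s : Finset S) (hs : s.card + 2 ≤ d)
    [IsLocalRing (S ⧸ Ideal.span (s : Set S))]
    (α : A →+* S ⧸ Ideal.span (s : Set S)) [IsLocalHom α] (hflat : α.Flat)
    (hmap : (maximalIdeal A).map α = maximalIdeal (S ⧸ Ideal.span (s : Set S)))
    (hres : Function.Surjective (ResidueField.map α))
    (m : Ideal B) [m.IsMaximal] (hm : m.comap (algebraMap A B) = maximalIdeal A) :
    IsPreconnected {p : PrimeSpectrum B | p.asIdeal ≤ m ∧ p.asIdeal ≠ m} ∧
      {p : PrimeSpectrum B | p.asIdeal ≤ m ∧ p.asIdeal ≠ m}.Nonempty := by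
  classical
  let J : Ideal S := Ideal.span (s : Set S)
  let Sb : Type u := S ⧸ J
  -- the residue extension
  let k := ResidueField A
  let k' := B ⧸ m
  letI : Field k' := Ideal.Quotient.field m
  letI : Algebra k k' := (Ideal.Quotient.lift (maximalIdeal A) (algebraMap A k') fun a ha => by
    rw [← hm] at ha
    exact Ideal.Quotient.eq_zero_iff_mem.2 ha).toAlgebra
  haveI : IsScalarTower A k k' := .of_algebraMap_eq fun _ => rfl
  haveI : Module.Finite k k' := Module.Finite.of_restrictScalars_finite A k k'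
  haveI : Algebra.FormallyUnramified A k' := Algebra.FormallyUnramified.comp A B k'
  haveI : Algebra.FormallyUnramified k k' := Algebra.FormallyUnramified.of_restrictScalars A k k'
  haveI : Algebra.IsSeparable k k' := Algebra.FormallyUnramified.isSeparable k k'
  obtain ⟨θ, hθ⟩ := Field.exists_primitive_element k k'
  have hint : IsIntegral k θ := .of_finite k θ
  let κ : k ≃+* ResidueField Sb := RingEquiv.ofBijective (ResidueField.map α) ⟨RingHom.injective _, hres⟩
  let gb : (ResidueField Sb)[X] := (minpoly k θ).map κ.toRingHom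
  let r : S →+* ResidueField Sb := (residue Sb).comp (Ideal.Quotient.mk J)
  have hr : Function.Surjective r := residue_surjective.comp Ideal.Quotient.mk_surjective
  obtain ⟨g, hg, -, hgm⟩ := lifts_and_degree_eq_and_monic (f := r)
    (p := gb) ((lifts_iff_coeff_lifts _).2 fun n => hr _) ((minpoly.monic hint).map _)
  have hgbirr : Irreducible (g.map r) := by
    rw [hg]
    exact (MulEquiv.irreducible_iff (mapEquiv κ)).2 (minpoly.irreducible hint)
  haveI := Fact.mk hgbirr
  -- the regular lift
  let S' := AdjoinRoot g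
  haveI : Module.Finite S S' := hgm.finite_adjoinRoot
  haveI : Module.Free S S' := hgm.free_adjoinRoot
  haveI : Nontrivial S' := by
    refine RingHom.domain_nontrivial (f := AdjoinRoot.lift ((AdjoinRoot.of (g.map r)).comp r) (AdjoinRoot.root (g.map r))
      (by rw [← eval₂_map, AdjoinRoot.eval₂_root]))
  haveI : FaithfulSMul S S' := Module.Free.instFaithfulSMulOfNontrivial S S'
  haveI : Algebra.IsIntegral S S' := Algebra.IsIntegral.of_finite S S'
  have hkr : RingHom.ker r = maximalIdeal S :=
    IsLocalRing.eq_maximalIdeal (RingHom.ker_isMaximal_of_surjective r hr)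
  let M' : Ideal S' := (maximalIdeal S).map (AdjoinRoot.of g)
  have hM' : M'.IsMaximal := by
    show ((maximalIdeal S).map (AdjoinRoot.of g)).IsMaximal
    rw [← hkr, ← ker_map_adjoinRoot r hr g]
    exact RingHom.ker_isMaximal_of_surjective _ (surjective_lift_adjoinRoot r hr g)
  have huniq : ∀ Q : Ideal S', Q.IsMaximal → Q = M' := fun Q hQ => by
    refine (hM'.eq_of_le hQ.ne_top (Ideal.map_le_iff_le_comap.2 (le_of_eq ?_))).symm
    exact (IsLocalRing.eq_maximalIdeal (Ideal.isMaximal_comap_of_isIntegral_of_isMaximal (R := S) Q)).symm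
  haveI : IsLocalRing S' := IsLocalRing.of_unique_max_ideal ⟨M', hM', huniq⟩
  have hmax : maximalIdeal S' = M' := (IsLocalRing.eq_maximalIdeal hM').symm
  haveI : IsNoetherianRing S' := IsNoetherianRing.of_finite S S'
  have hd' : ringKrullDim S' = d := (VarDim.ringKrullDim_eq_of_isIntegral (R := S) (S := S')).trans hd
  haveI : IsRegularLocalRing S' := by
    refine IsRegularLocalRing.of_spanFinrank_maximalIdeal_le _ ?_
    rw [hd', ← hd, ← IsRegularLocalRing.spanFinrank_maximalIdeal (R := S), hmax]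
    refine Nat.cast_le.2 ?_
    obtain ⟨T, hTfin, hTc, hTs⟩ : ∃ T : Set S, T.Finite ∧ T.ncard = (maximalIdeal S).spanFinrank ∧
        Ideal.span T = maximalIdeal S :=
      ⟨_, Submodule.FG.finite_generators (maximalIdeal S).fg_of_isNoetherianRing,
        Submodule.FG.generators_ncard (maximalIdeal S).fg_of_isNoetherianRing, Submodule.span_generators _⟩
    show M'.spanFinrank ≤ _
    rw [show M' = Ideal.span (AdjoinRoot.of g '' T) by rw [← Ideal.map_span, hTs], ← hTc]
    exact (Submodule.spanFinrank_span_le_ncard_of_finite (hTfin.image _)).trans (Set.ncard_image_le hTfin)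
  haveI : IsDomain S' := RegLoc6.isDomain_of_isRegularLocalRing S'
  haveI : IsAdicComplete (maximalIdeal S') S' := by
    rw [hmax]
    exact (IsAdicComplete.map_algebraMap_iff (S := S') (maximalIdeal S) S').2 (AdicLib.isAdicComplete_of_finite _ S')
  -- the quotient
  let gq : Sb[X] := g.map (Ideal.Quotient.mk J)
  let E := AdjoinRoot gq
  let π : S' →+* E := AdjoinRoot.lift ((AdjoinRoot.of gq).comp (Ideal.Quotient.mk J)) (AdjoinRoot.root gq)
    (by rw [← eval₂_map, AdjoinRoot.eval₂_root])
  have hπ : Function.Surjective π := surjective_lift_adjoinRoot _ Ideal.Quotient.mk_surjective g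
  have hkπ : RingHom.ker π = J.map (AdjoinRoot.of g) :=
    (ker_map_adjoinRoot _ Ideal.Quotient.mk_surjective g).trans (by rw [Ideal.mk_ker])
  have hgq : gq.Monic := hgm.map _
  haveI : Module.Free Sb E := hgq.free_adjoinRoot
  haveI : Module.Finite Sb E := hgq.finite_adjoinRoot
  haveI : Algebra.IsIntegral Sb E := Algebra.IsIntegral.of_finite Sb E
  have hev : (minpoly k θ).eval₂ (algebraMap k k') θ = 0 := minpoly.aeval k θ
  let ρ₀ : Sb →+* k' := ((algebraMap k k').comp κ.symm.toRingHom).comp (residue Sb)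
  have hgq0 : gq.eval₂ ρ₀ θ = 0 := by
    rw [eval₂_map, show ρ₀.comp (Ideal.Quotient.mk J) = ((algebraMap k k').comp κ.symm.toRingHom).comp r from rfl,
      ← eval₂_map, hg, eval₂_map]
    rw [RingHom.comp_assoc, show κ.symm.toRingHom.comp κ.toRingHom = RingHom.id k from
      RingHom.ext fun x => κ.symm_apply_apply x, RingHom.comp_id]
    exact hev
  haveI : Nontrivial E := RingHom.domain_nontrivial (f := AdjoinRoot.lift ρ₀ θ hgq0)
  haveI : IsLocalRing E := IsLocalRing.of_surjective' π hπ
  haveI : IsAdicComplete (maximalIdeal E) E := by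
    letI : Algebra S' E := π.toAlgebra
    haveI : Module.Finite S' E := Module.Finite.of_surjective (Algebra.linearMap S' E) hπ
    have := (IsAdicComplete.map_algebraMap_iff (S := E) (maximalIdeal S') E).2 (AdicLib.isAdicComplete_of_finite _ E)
    rwa [show (maximalIdeal S').map (algebraMap S' E) = maximalIdeal E from
      IsLocalRing.map_maximalIdeal_of_surjective π hπ] at this
  haveI : HenselianRing E (maximalIdeal E) := inferInstance
  let ρ : E →+* k' := AdjoinRoot.lift ρ₀ θ hgq0
  have hρ₀ : ∀ c : k, ∃ x, ρ₀ x = algebraMap k k' c := fun c => by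
    obtain ⟨x, hx⟩ := residue_surjective (κ c)
    exact ⟨x, by simp [ρ₀, hx]⟩
  have hρ : Function.Surjective ρ := fun z => by
    have hz : z ∈ Algebra.adjoin k {θ} := by
      rw [← IntermediateField.adjoin_simple_toSubalgebra_of_isAlgebraic hint.isAlgebraic, hθ]; trivial
    induction hz using Algebra.adjoin_induction with
    | mem x hx => exact ⟨AdjoinRoot.root gq, by rw [AdjoinRoot.lift_root]; exact hx.symm⟩
    | algebraMap c =>
      obtain ⟨x, hx⟩ := hρ₀ c
      exact ⟨AdjoinRoot.of gq x, by rw [AdjoinRoot.lift_of, hx]⟩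
    | add x y _ _ hx hy =>
      obtain ⟨a, rfl⟩ := hx; obtain ⟨b, rfl⟩ := hy
      exact ⟨a + b, map_add _ _ _⟩
    | mul x y _ _ hx hy =>
      obtain ⟨a, rfl⟩ := hx; obtain ⟨b, rfl⟩ := hy
      exact ⟨a * b, map_mul _ _ _⟩
  letI : Algebra A E := ((AdjoinRoot.of gq).comp α).toAlgebra
  haveI : Module.Flat A E := RingHom.Flat.comp (f := α) (g := AdjoinRoot.of gq) hflat
    (RingHom.flat_algebraMap_iff.2 (inferInstanceAs (Module.Flat Sb E)))
  have hkρ : RingHom.ker ρ = maximalIdeal E :=
    IsLocalRing.eq_maximalIdeal (RingHom.ker_isMaximal_of_surjective ρ hρ)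
  have hρA : ∀ a : A, ρ (algebraMap A E a) = algebraMap A k' a := fun a => by
    show ρ (AdjoinRoot.of gq (α a)) = _
    rw [AdjoinRoot.lift_of]
    show algebraMap k k' (κ.symm (residue Sb (α a))) = _
    rw [show residue Sb (α a) = κ (residue A a) from rfl, RingEquiv.symm_apply_apply]
    rfl
  let ρe : (E ⧸ maximalIdeal E) ≃ₐ[A] k' := AlgEquiv.ofRingEquiv
    (f := (Ideal.quotEquivOfEq hkρ.symm).trans (RingHom.quotientKerEquivOfSurjective hρ)) fun a => by
      rw [RingEquiv.trans_apply]
      exact hρA a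
  obtain ⟨ψ, hψ, -⟩ := Hensel.existsUnique_etale_lift_of_algebra (maximalIdeal E)
    (ρe.symm.toAlgHom.comp (Ideal.Quotient.mkₐ A m))
  have hψm : (maximalIdeal E).comap ψ.toRingHom = m := by
    ext b
    rw [Ideal.mem_comap, ← Ideal.Quotient.eq_zero_iff_mem, ← Ideal.Quotient.eq_zero_iff_mem (I := m)]
    show Ideal.Quotient.mkₐ A (maximalIdeal E) (ψ b) = 0 ↔ _
    rw [show Ideal.Quotient.mkₐ A (maximalIdeal E) (ψ b) = ρe.symm (Ideal.Quotient.mk m b) from congr($hψ b)]
    exact ρe.symm.toRingEquiv.map_eq_zero_iff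
  letI : Algebra B E := ψ.toRingHom.toAlgebra
  haveI : IsScalarTower A B E := .of_algebraMap_eq fun a => (ψ.commutes a).symm
  haveI : Module.Flat B E := DescLib.flat_over_unramified A B E
  haveI : Algebra.HasGoingDown B E := inferInstance
  -- connectedness upstairs
  let S0 : Set (PrimeSpectrum S') :=
    {x | RingHom.ker π ≤ x.asIdeal ∧ x.asIdeal ≠ maximalIdeal S'}
  have hS0 : IsConnected S0 := by
    refine S17758.result S' d hd' s.card hs (fun i => AdjoinRoot.of g (s.equivFin.symm i : S)) (RingHom.ker π)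
      (RingHom.ker_ne_top π) ?_
    rw [hkπ, Ideal.map_span]
    congr 2
    ext y
    constructor
    · rintro ⟨x, hx, rfl⟩; exact ⟨s.equivFin ⟨x, hx⟩, by simp⟩
    · rintro ⟨i, rfl⟩; exact ⟨_, (s.equivFin.symm i).2, rfl⟩
  have hcl := PrimeSpectrum.isClosedEmbedding_comap_of_surjective E π hπ
  let T : Set (PrimeSpectrum E) := {q | q.asIdeal ≠ maximalIdeal E}
  have hT : PrimeSpectrum.comap π '' T = S0 := by
    ext x
    constructor
    · rintro ⟨q, hq, rfl⟩
      refine ⟨Ideal.ker_le_comap π, fun h => hq ?_⟩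
      rw [← Ideal.map_comap_of_surjective π hπ q.asIdeal]
      exact (congrArg (Ideal.map π) h).trans (IsLocalRing.map_maximalIdeal_of_surjective π hπ)
    · rintro ⟨hx1, hx2⟩
      have hx' : x ∈ Set.range (PrimeSpectrum.comap π) := by
        rw [range_comap_of_surjective _ π hπ]; exact hx1
      obtain ⟨q, rfl⟩ := hx'
      refine ⟨q, fun h => hx2 ?_, rfl⟩
      show q.asIdeal.comap π = _
      rw [h]
      exact IsLocalRing.eq_maximalIdeal (Ideal.comap_isMaximal_of_surjective π hπ)
  have hTc : IsConnected T := by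
    refine ⟨?_, hcl.isInducing.isPreconnected_image.1 (hT ▸ hS0.2)⟩
    obtain ⟨x, hx⟩ := hS0.1
    rw [← hT] at hx
    obtain ⟨q, hq, -⟩ := hx
    exact ⟨q, hq⟩
  have himg : PrimeSpectrum.comap ψ.toRingHom '' T = {p : PrimeSpectrum B | p.asIdeal ≤ m ∧ p.asIdeal ≠ m} := by
    ext p
    constructor
    · rintro ⟨q, hq, rfl⟩
      refine ⟨(Ideal.comap_mono (IsLocalRing.le_maximalIdeal q.isPrime.ne_top)).trans hψm.le, fun h => hq ?_⟩
      have h1 : (maximalIdeal A).map (algebraMap A E) ≤ q.asIdeal := by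
        rw [← hm, ← h, Ideal.map_le_iff_le_comap]
        intro a ha
        rw [Ideal.mem_comap, PrimeSpectrum.comap_asIdeal, Ideal.mem_comap] at ha
        rw [Ideal.mem_comap, IsScalarTower.algebraMap_apply A B E]
        exact ha
      have h2 : maximalIdeal Sb ≤ q.asIdeal.comap (AdjoinRoot.of gq) := by
        rw [← hmap, Ideal.map_le_iff_le_comap]
        intro a ha
        exact h1 (Ideal.mem_map_of_mem _ ha)
      have h3 : (q.asIdeal.comap (AdjoinRoot.of gq)).IsMaximal :=
        (maximalIdeal.isMaximal Sb).eq_of_le (Ideal.comap_ne_top _ q.isPrime.ne_top) h2 ▸ maximalIdeal.isMaximal Sb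
      exact IsLocalRing.eq_maximalIdeal (Ideal.isMaximal_of_isIntegral_of_isMaximal_comap (R := Sb) q.asIdeal h3)
    · rintro ⟨hle, hne⟩
      haveI : (maximalIdeal E).LiesOver m := ⟨hψm.symm⟩
      obtain ⟨P, -, hP, hPp⟩ := Ideal.exists_ideal_le_liesOver_of_le (p := p.asIdeal) (q := m) (maximalIdeal E) hle
      refine ⟨⟨P, hP⟩, fun h => hne ?_, PrimeSpectrum.ext hPp.over.symm⟩
      rw [hPp.over, show P = maximalIdeal E from h]
      exact hψm
  rw [← himg]
  exact ⟨hTc.2.image _ (PrimeSpectrum.continuous_comap ψ.toRingHom).continuousOn, hTc.1.image _⟩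

end Groth.Agent.Pi1Vdim
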