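import Groth.Agent.Pi1Vdim.Local
import Groth.Agent.Pi1X.FEtFull
import Groth.Prelude.Def_Pi1

/-!
# Full faithfulness of restriction to the punctured spectrum in virtual dimension at least two
-/

set_option autoImplicit false
set_option linter.style.haveILetI false
set_option backward.isDefEq.respectTransparency false

universe u

open CategoryTheory CategoryTheory.Limits AlgebraicGeometry TopologicalSpace IsLocalRing

namespace Groth.Agent.Pi1Vdim

/-- A point in the closure of an open subset of a noetherian sober space has a generalization in it. -/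
theorem exists_specializes_of_mem_closure {X : Type u} [TopologicalSpace X] [NoetherianSpace X] [QuasiSober X]
    {O : Set X} (hO : IsOpen O) {w : X} (hw : w ∈ closure O) : ∃ η ∈ O, η ⤳ w := by
  obtain ⟨F, hFfin, hFc, hFi, hFe⟩ := NoetherianSpace.exists_finite_set_isClosed_irreducible (s := closure O) isClosed_closure
  let F' := {Z ∈ F | (Z ∩ O).Nonempty}
  have hsub : O ⊆ ⋃₀ F' := fun x hx => by
    have hx' : x ∈ ⋃₀ F := hFe ▸ subset_closure hx
    obtain ⟨Z, hZ, hxZ⟩ := hx'
    exact ⟨Z, ⟨hZ, x, hxZ, hx⟩, hxZ⟩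
  have hcl : IsClosed (⋃₀ F') := by
    rw [Set.sUnion_eq_biUnion]
    exact (hFfin.subset fun Z hZ => hZ.1).isClosed_biUnion fun Z hZ => hFc Z hZ.1
  obtain ⟨Z, ⟨hZ, hne⟩, hwZ⟩ := closure_minimal hsub hcl hw
  refine ⟨(hFi Z hZ).genericPoint, ?_, (hFi Z hZ).isGenericPoint_genericPoint (hFc Z hZ) |>.specializes hwZ⟩
  exact ((hFi Z hZ).isGenericPoint_genericPoint (hFc Z hZ)).mem_open_set_iff hO |>.2 hne

section

variable {A : Type u} [CommRing A] [IsNoetherianRing A] [IsLocalRing A]

/-- The punctured neighbourhood of every point over the closed point is connected. -/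
def GenConn (A : Type u) [CommRing A] [IsLocalRing A] : Prop :=
  ∀ (B : Type u) [CommRing B] [Algebra A B] [Module.Finite A B] [Algebra.Etale A B] (m : Ideal B) [m.IsMaximal],
    m.comap (algebraMap A B) = maximalIdeal A →
    _root_.IsPreconnected {p : PrimeSpectrum B | p.asIdeal ≤ m ∧ p.asIdeal ≠ m} ∧
      {p : PrimeSpectrum B | p.asIdeal ≤ m ∧ p.asIdeal ≠ m}.Nonempty

theorem genConn_of_presentation (S : Type u) [CommRing S] [IsRegularLocalRing S]
    [IsAdicComplete (maximalIdeal S) S] (d : ℕ) (hd : ringKrullDim S = d) (s : Finset S) (hs : s.card + 2 ≤ d)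
    (e : AdicCompletion (maximalIdeal A) A ≃+* S ⧸ Ideal.span (s : Set S)) : GenConn A := by
  intro B _ _ _ _ m _ hm
  haveI : IsLocalRing (S ⧸ Ideal.span (s : Set S)) := e.isLocalRing
  let Ah := AdicCompletion (maximalIdeal A) A
  let α : A →+* S ⧸ Ideal.span (s : Set S) := e.toRingHom.comp (algebraMap A Ah)
  have hmap : (maximalIdeal A).map α = maximalIdeal (S ⧸ Ideal.span (s : Set S)) := by
    rw [← Ideal.map_map, ← AdicCompletion.maximalIdeal_eq_map]
    exact IsLocalRing.map_ringEquiv_maximalIdeal e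
  haveI : IsLocalHom α := ((IsLocalRing.local_hom_TFAE α).out 0 2).2 hmap.le
  have hflat : α.Flat :=
    RingHom.Flat.comp (RingHom.flat_algebraMap_iff.2 (inferInstance : Module.Flat A Ah))
      (RingHom.Flat.of_bijective e.bijective)
  refine isPreconnected_gen d hd s hs α hflat hmap (fun y => ?_) m hm
  obtain ⟨x, rfl⟩ := residue_surjective y
  obtain ⟨z, rfl⟩ := e.surjective x
  obtain ⟨a, ha⟩ := Ideal.Quotient.mk_surjective (z.val 1)
  refine ⟨residue A a, ?_⟩
  show residue _ (e (algebraMap A Ah a)) = _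
  rw [← sub_eq_zero, ← map_sub, ← map_sub, residue_eq_zero_iff, mem_maximalIdeal, mem_nonunits_iff,
    MulEquiv.isUnit_map, ← mem_nonunits_iff, ← mem_maximalIdeal, AdicCompletion.mem_maximalIdeal_iff_eval_one_eq_zero]
  show (algebraMap A Ah a).val 1 - z.val 1 = 0
  rw [sub_eq_zero, ← ha]
  rfl

variable (hA : GenConn A)

include hA in
theorem gen_scheme (W : FEt.Cat (Spec (CommRingCat.of A))) (w : W.left)
    (hw : W.hom w = IsLocalRing.closedPoint A) :
    _root_.IsPreconnected {y : W.left | y ⤳ w ∧ y ≠ w} ∧ {y : W.left | y ⤳ w ∧ y ≠ w}.Nonempty := by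
  let f : W.left ⟶ Spec (CommRingCat.of A) := W.hom
  haveI : IsFinite f := W.prop.1
  haveI : Etale f := W.prop.2
  haveI : IsAffine W.left := isAffine_of_isAffineHom f
  obtain ⟨φ, hφ⟩ := Spec.map_surjective (W.left.isoSpec.inv ≫ f)
  let B := Γ(W.left, ⊤)
  letI : Algebra A B := φ.hom.toAlgebra
  haveI : IsFinite (Spec.map φ) := hφ ▸ inferInstance
  haveI : Etale (Spec.map φ) := hφ ▸ inferInstance
  haveI : Module.Finite A B := (IsFinite.SpecMap_iff φ).1 inferInstance
  haveI : Algebra.Etale A B := RingHom.etale_algebraMap.1 ((HasRingHomProperty.Spec_iff (P := @Etale) (φ := φ)).1 inferInstance)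
  let h : W.left ≃ₜ PrimeSpectrum B := Scheme.homeoOfIso W.left.isoSpec
  let m := (h w).asIdeal
  have hm : m.comap (algebraMap A B) = maximalIdeal A := by
    have h1 : Spec.map φ (W.left.isoSpec.hom w) = closedPoint A := by
      rw [hφ, ← Scheme.Hom.comp_apply, Iso.hom_inv_id_assoc]
      exact hw
    exact congrArg PrimeSpectrum.asIdeal h1
  haveI : m.IsMaximal := by
    haveI : Algebra.IsIntegral A B := Algebra.IsIntegral.of_finite A B
    exact Ideal.isMaximal_of_isIntegral_of_isMaximal_comap (R := A) m (hm ▸ maximalIdeal.isMaximal A)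
  have heq : h '' {y : W.left | y ⤳ w ∧ y ≠ w} = {p : PrimeSpectrum B | p.asIdeal ≤ m ∧ p.asIdeal ≠ m} := by
    ext p
    constructor
    · rintro ⟨y, ⟨hy, hne⟩, rfl⟩
      exact ⟨(PrimeSpectrum.le_iff_specializes _ _).2 (hy.map h.continuous),
        fun e => hne (h.injective (PrimeSpectrum.ext e))⟩
    · rintro ⟨hle, hne⟩
      obtain ⟨y, rfl⟩ := h.surjective p
      refine ⟨y, ⟨?_, fun e => hne (e ▸ rfl)⟩, rfl⟩
      exact h.isInducing.specializes_iff.1 ((PrimeSpectrum.le_iff_specializes _ _).1 hle)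
  obtain ⟨h1, h2⟩ := hA B m hm
  rw [← heq] at h1 h2
  exact ⟨h.isInducing.isPreconnected_image.1 h1, Set.image_nonempty.1 h2⟩

theorem mem_puncturedSpec_iff (x : Spec (CommRingCat.of A)) :
    x ∈ FEt.puncturedSpec A ↔ x ≠ IsLocalRing.closedPoint A := Iff.rfl

theorem not_specializes_closedPoint_ne {W : Scheme.{u}} (f : W ⟶ Spec (CommRingCat.of A)) [IsFinite f] {y w : W}
    (hy : y ⤳ w) (hfy : f y = closedPoint A) : y = w := by
  by_contra hne
  haveI : DiscreteTopology ↥(f ⁻¹' {closedPoint A}) := (f.isDiscrete_preimage_singleton _).to_subtype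
  have hfw : f w = closedPoint A := by
    have := hy.map f.continuous
    rw [hfy] at this
    exact ((IsLocalRing.specializes_closedPoint _).antisymm this).eq
  let a : ↥(f ⁻¹' {closedPoint A}) := ⟨y, hfy⟩
  let b : ↥(f ⁻¹' {closedPoint A}) := ⟨w, hfw⟩
  have hab : a ⤳ b := (subtype_specializes_iff a b).2 hy
  exact hne (congrArg Subtype.val hab.eq)

include hA in
theorem restrict_punctured :
    ((FEt.restrict (FEt.puncturedSpec A).ι).Full ∧ (FEt.restrict (FEt.puncturedSpec A).ι).Faithful) ∧
      ConnectedSpace ↥(FEt.puncturedSpec A : Scheme.{u}) := by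
  haveI : IsNoetherianRing (CommRingCat.of A) := ‹IsNoetherianRing A›
  let U := FEt.puncturedSpec A
  -- the trivial cover
  let one : FEt.Cat (Spec (CommRingCat.of A)) :=
    MorphismProperty.Over.mk ⊤ (𝟙 _) ⟨inferInstance, inferInstance⟩
  have hcp : IsClosed ({closedPoint A} : Set (Spec (CommRingCat.of A))) := isClosed_singleton_closedPoint A
  obtain ⟨hpc, hne⟩ := gen_scheme hA one (closedPoint A) rfl
  have hset : {y : Spec (CommRingCat.of A) | y ⤳ closedPoint A ∧ y ≠ closedPoint A} = (U : Set _) :=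
    Set.ext fun y => ⟨fun h => h.2, fun h => ⟨IsLocalRing.specializes_closedPoint y, h⟩⟩
  have h : ∀ C : Set (Spec (CommRingCat.of A)), IsClopen C → C.Nonempty → (C ∩ Set.range U.ι.base).Nonempty := by
    rintro C hC ⟨c, hc⟩
    obtain ⟨y, hy, hyne⟩ := hne
    refine ⟨y, hy.mem_open hC.isOpen ((IsLocalRing.specializes_closedPoint c).mem_closed hC.isClosed hc), ?_⟩
    show y ∈ Set.range U.ι
    rw [Scheme.Opens.range_ι]
    exact hyne
  refine ⟨⟨Pi1X.restrict_full U.ι h fun W C hC => ?_, Pi1X.restrict_faithful U.ι h⟩, ?_⟩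
  · let f : W.left ⟶ Spec (CommRingCat.of A) := W.hom
    haveI : IsFinite f := W.prop.1
    haveI : IsAffine W.left := isAffine_of_isAffineHom f
    haveI : IsLocallyNoetherian W.left := LocallyOfFiniteType.isLocallyNoetherian f
    haveI : CompactSpace W.left := QuasiCompact.compactSpace_of_compactSpace f
    haveI : AlgebraicGeometry.IsNoetherian W.left := {}
    haveI : NoetherianSpace W.left := inferInstance
    let j : pullback W.hom U.ι ⟶ W.left := pullback.fst W.hom U.ι
    have hr : Set.range j = {x | f x ≠ closedPoint A} := by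
      show Set.range (pullback.fst W.hom U.ι) = _
      rw [Scheme.Pullback.range_fst]
      show f ⁻¹' Set.range U.ι = _
      rw [Scheme.Opens.range_ι]
      rfl
    have ho := j.isOpenEmbedding
    let O : Set W.left := j '' C
    let O' : Set W.left := j '' Cᶜ
    have hO : IsOpen O := ho.isOpenMap _ hC.isOpen
    have hO' : IsOpen O' := ho.isOpenMap _ hC.compl.isOpen
    have hd : Disjoint O O' := (Set.disjoint_image_iff ho.injective).2 disjoint_compl_right
    have hu : O ∪ O' = Set.range j := by rw [← Set.image_union, Set.union_compl_self, Set.image_univ]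
    have hgen : ∀ w, f w = closedPoint A → {y | y ⤳ w ∧ y ≠ w} ⊆ O ∪ O' := fun w _ y hy => by
      rw [hu, hr]
      exact fun e => hy.2 (not_specializes_closedPoint_ne f hy.1 e)
    have hdisj : ∀ w, w ∈ closure O → w ∉ closure O' := fun w h1 h2 => by
      by_cases hw : f w = closedPoint A
      · obtain ⟨η, hη, hηw⟩ := exists_specializes_of_mem_closure hO h1
        obtain ⟨η', hη', hηw'⟩ := exists_specializes_of_mem_closure hO' h2
        have hneO : ∀ z ∈ O ∪ O', z ≠ w := fun z hz e => by
          rw [hu, hr] at hz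
          exact hz (e ▸ hw)
        obtain ⟨z, -, hz⟩ := (gen_scheme hA W w hw).1 O O' hO hO' (hgen w hw)
          ⟨η, ⟨hηw, hneO η (Or.inl hη)⟩, hη⟩ ⟨η', ⟨hηw', hneO η' (Or.inr hη')⟩, hη'⟩
        exact Set.disjoint_left.1 hd hz.1 hz.2
      · have hwr : w ∈ O ∪ O' := by rw [hu, hr]; exact hw
        rcases hwr with hwO | hwO
        · obtain ⟨z, hz1, hz2⟩ := mem_closure_iff.1 h2 O hO hwO
          exact Set.disjoint_left.1 hd hz1 hz2
        · obtain ⟨z, hz1, hz2⟩ := mem_closure_iff.1 h1 O' hO' hwO
          exact Set.disjoint_left.1 hd hz2 hz1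
    have hcov : ∀ w, w ∈ closure O ∨ w ∈ closure O' := fun w => by
      by_cases hw : f w = closedPoint A
      · obtain ⟨y, hy⟩ := (gen_scheme hA W w hw).2
        rcases hgen w hw hy with h' | h'
        · exact Or.inl (hy.1.mem_closed isClosed_closure (subset_closure h'))
        · exact Or.inr (hy.1.mem_closed isClosed_closure (subset_closure h'))
      · have hwr : w ∈ O ∪ O' := by rw [hu, hr]; exact hw
        exact hwr.imp (fun h' => subset_closure h') (fun h' => subset_closure h')
    refine ⟨closure O, ⟨isClosed_closure, ?_⟩, ?_⟩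
    · rw [show closure O = (closure O')ᶜ from
        Set.ext fun w => ⟨fun h1 => hdisj w h1, fun h1 => (hcov w).resolve_right h1⟩]
      exact isClosed_closure.isOpen_compl
    · ext z
      constructor
      · intro hz
        by_contra hzC
        exact hdisj (j z) hz (subset_closure ⟨z, hzC, rfl⟩)
      · exact fun hz => subset_closure ⟨z, hz, rfl⟩
  · have hU : _root_.IsConnected (U : Set (Spec (CommRingCat.of A))) := hset ▸ ⟨hne, hpc⟩
    exact isConnected_iff_connectedSpace.1 hU

end

end Groth.Agent.Pi1Vdim
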